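import Cfsg.Agent.BlockVal.Principal

/-!
The bounds of Brauer and Feit on the heights and the number of characters of a block.
-/

set_option maxHeartbeats 400000
set_option linter.style.haveILetI false

namespace Cfsg.Agent.BrauerPairs

open Cfsg
open Cfsg.Agent.BlockVal

universe u

variable {G : Type u} [Group G] [Fintype G] {p : ℕ} {M : Ideal AlgInt}

open scoped Classical in
/-- The off-diagonal squares of a row are bounded by a quarter of `p^(2a)`. -/
theorem four_row_le (hM : IsPModular p M) {B : Set (IrrCharacter G)} (hB : IsPBlock M B)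
    {χ : IrrCharacter G} (hχ : χ ∈ B) {n : IrrCharacter G → ℤ}
    (hn : ∀ η : IrrCharacter G, cReg p (χ : G → ℂ) (η : G → ℂ) = n η) :
    4 * ∑ η ∈ (Finset.univ.filter (· ∈ B)).erase χ, n η ^ 2 ≤
      (p : ℤ) ^ (2 * (Nat.card G).factorization p) := by
  haveI : M.IsPrime := hM.2.1.isPrime
  haveI : Fact p.Prime := ⟨hM.1⟩
  set a := (Nat.card G).factorization p
  have h := sum_cReg_sq hM hB hχ
  have h2 : ∀ η : IrrCharacter G, cReg p (η : G → ℂ) (χ : G → ℂ) = (n η : ℂ) := fun η => by
    rw [cReg_comm, hn]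
  simp only [hn, h2] at h
  have h3 : ∑ η ∈ Finset.univ.filter (· ∈ B), n η * n η = (p : ℤ) ^ a * n χ := by
    exact_mod_cast h
  rw [← Finset.add_sum_erase _ _ (show χ ∈ Finset.univ.filter (· ∈ B) by simp [hχ])] at h3
  have h4 : ∀ η, n η ^ 2 = n η * n η := fun η => sq _
  simp only [h4]
  rw [mul_comm 2 a, pow_mul]
  nlinarith [sq_nonneg ((p : ℤ) ^ a - 2 * n χ)]

theorem pow_le_sq_of_not_dvd [Fact p.Prime] {m : ℤ} {b : ℕ} (h1 : (p : ℤ) ^ b ∣ m)
    (h2 : ¬ (p : ℤ) ^ (b + 1) ∣ m) : (p : ℤ) ^ (2 * b) ≤ m ^ 2 := by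
  obtain ⟨k, rfl⟩ := h1
  have hk : k ≠ 0 := fun h => h2 (by rw [h, mul_zero]; exact dvd_zero _)
  rw [mul_pow, ← pow_mul, mul_comm b 2]
  exact le_mul_of_one_le_right (by positivity)
    (Int.add_one_le_iff.mpr (lt_of_le_of_ne (sq_nonneg _) (pow_ne_zero 2 hk).symm))

omit [Fintype G] in
theorem factorization_eq_add_height {B : Set (IrrCharacter G)} {χ η : IrrCharacter G}
    (hχ : χ ∈ B) (h0 : blockHeight p B (χ : G → ℂ) = 0) (hη : η ∈ B) :
    (charDegree (η : G → ℂ)).factorization p =
      (charDegree (χ : G → ℂ)).factorization p + blockHeight p B (η : G → ℂ) := by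
  have h1 := (blockHeight_eq_zero_iff hχ).1 h0 η hη
  have h2 : sInf ((fun ψ : IrrCharacter G => (charDegree (ψ : G → ℂ)).factorization p) '' B) =
      (charDegree (χ : G → ℂ)).factorization p := by
    refine le_antisymm (Nat.sInf_le ⟨χ, hχ, rfl⟩) (le_csInf ⟨_, χ, hχ, rfl⟩ ?_)
    rintro _ ⟨ψ, hψ, rfl⟩
    exact (blockHeight_eq_zero_iff hχ).1 h0 ψ hψ
  rw [blockHeight, h2]
  omega

/-- The height is at most the defect minus two, unless it is zero. -/
theorem height_le (hM : IsPModular p M) {B : Set (IrrCharacter G)} (hB : IsPBlock M B)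
    {η : IrrCharacter G} (hη : η ∈ B) (hh : blockHeight p B (η : G → ℂ) ≠ 0) :
    blockHeight p B (η : G → ℂ) + 2 ≤ blockDefect p B := by
  haveI : M.IsPrime := hM.2.1.isPrime
  obtain ⟨χ, hχ, h0⟩ := exists_height_zero (p := p) (Block.pBlock_nonempty hB)
  rw [blockDefect_eq hχ h0]
  have h1 := factorization_eq_add_height hχ h0 hη
  by_contra hlt
  exact hh (dvd_degree_of_pow_pred_dvd hM hB hη (by omega))

open scoped Classical in
/-- Brauer–Feit, weighted by the heights. -/
theorem four_sum_height_le (hM : IsPModular p M) {B : Set (IrrCharacter G)} (hB : IsPBlock M B)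
    {χ : IrrCharacter G} (hχ : χ ∈ B) (h0 : blockHeight p B (χ : G → ℂ) = 0) :
    4 * ∑ η ∈ (Finset.univ.filter (· ∈ B)).erase χ, p ^ (2 * blockHeight p B (η : G → ℂ)) ≤
      p ^ (2 * blockDefect p B) := by
  haveI : M.IsPrime := hM.2.1.isPrime
  haveI : Fact p.Prime := ⟨hM.1⟩
  choose n hn hnl hnr using fun η : IrrCharacter G => cReg_int (p := p) χ η
  have h := four_row_le hM hB hχ hn
  rw [blockDefect_eq hχ h0]
  set a := (Nat.card G).factorization p
  set b := (charDegree (χ : G → ℂ)).factorization p with hb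
  have hba : b ≤ a := factorization_degree_le p χ
  have hle : 4 * ∑ η ∈ (Finset.univ.filter (· ∈ B)).erase χ,
      (p : ℤ) ^ (2 * blockHeight p B (η : G → ℂ)) * (p : ℤ) ^ (2 * b) ≤
        (p : ℤ) ^ (2 * (a - b)) * (p : ℤ) ^ (2 * b) := by
    rw [← pow_add, show 2 * (a - b) + 2 * b = 2 * a by omega]
    refine le_trans (mul_le_mul_of_nonneg_left (Finset.sum_le_sum fun η hη => ?_) (by norm_num)) h
    have hηB : η ∈ B := by simpa using Finset.mem_of_mem_erase hη
    have := pow_le_sq_of_not_dvd (hnr η) (not_dvd_succ_of_height_zero hM hB hχ h0 hηB (hn η))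
    rwa [factorization_eq_add_height hχ h0 hηB, ← hb, mul_add, add_comm, pow_add] at this
  rw [← Finset.sum_mul, ← mul_assoc] at hle
  have hp : (0 : ℤ) < (p : ℤ) ^ (2 * b) := by
    have : (0 : ℤ) < p := by exact_mod_cast hM.1.pos
    positivity
  exact_mod_cast le_of_mul_le_mul_right hle hp

open scoped Classical in
/-- The characters of height zero, seen from one of positive height. -/
theorem four_height_zero_le (hM : IsPModular p M) {B : Set (IrrCharacter G)} (hB : IsPBlock M B)
    {η : IrrCharacter G} (hη : η ∈ B) (hh : blockHeight p B (η : G → ℂ) ≠ 0) :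
    4 * (Finset.univ.filter (fun χ : IrrCharacter G =>
        χ ∈ B ∧ blockHeight p B (χ : G → ℂ) = 0)).card ≤ p ^ (2 * blockDefect p B - 2) := by
  haveI : M.IsPrime := hM.2.1.isPrime
  haveI : Fact p.Prime := ⟨hM.1⟩
  choose n hn hnl hnr using fun χ : IrrCharacter G => cReg_int (p := p) η χ
  have h := four_row_le hM hB hη hn
  obtain ⟨χ₀, hχ₀, h₀⟩ := exists_height_zero (p := p) (Block.pBlock_nonempty hB)
  have hd := blockDefect_eq (p := p) hχ₀ h₀
  have hle := height_le hM hB hη hh
  have he := factorization_eq_add_height hχ₀ h₀ hη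
  set a := (Nat.card G).factorization p
  set b := (charDegree (η : G → ℂ)).factorization p with hb
  set s := Finset.univ.filter (fun χ : IrrCharacter G => χ ∈ B ∧ blockHeight p B (χ : G → ℂ) = 0)
  have h1 : (s.card : ℤ) * (p : ℤ) ^ (2 * b) ≤
      ∑ χ ∈ (Finset.univ.filter (· ∈ B)).erase η, n χ ^ 2 := by
    refine le_trans ?_ (Finset.sum_le_sum_of_subset_of_nonneg (s := s) ?_ fun _ _ _ => sq_nonneg _)
    · rw [← nsmul_eq_mul, ← Finset.sum_const]
      refine Finset.sum_le_sum fun χ hχ => ?_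
      simp only [s, Finset.mem_filter, Finset.mem_univ, true_and] at hχ
      refine pow_le_sq_of_not_dvd (hnl χ) ?_
      exact not_dvd_succ_of_height_zero hM hB hχ.1 hχ.2 hη (by rw [cReg_comm, hn])
    · intro χ hχ
      simp only [s, Finset.mem_filter, Finset.mem_univ, true_and] at hχ
      simp only [Finset.mem_erase, Finset.mem_filter, Finset.mem_univ, true_and]
      exact ⟨fun he => hh (he ▸ hχ.2), hχ.1⟩
  have hp : (1 : ℤ) ≤ (p : ℤ) := by exact_mod_cast hM.1.one_lt.le
  have h2 : 4 * (s.card : ℤ) * (p : ℤ) ^ (2 * b) ≤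
      (p : ℤ) ^ (2 * blockDefect p B - 2) * (p : ℤ) ^ (2 * b) := by
    rw [← pow_add]
    refine le_trans ?_ (h.trans (pow_le_pow_right₀ hp (by omega)))
    rw [mul_assoc]
    exact mul_le_mul_of_nonneg_left h1 (by norm_num)
  exact_mod_cast le_of_mul_le_mul_right h2 (by positivity)

/-- A block with a character of positive height has at most `p^(2d-2)/2` characters. -/
theorem two_card_le (hM : IsPModular p M) {B : Set (IrrCharacter G)} (hB : IsPBlock M B)
    {η : IrrCharacter G} (hη : η ∈ B) (hh : blockHeight p B (η : G → ℂ) ≠ 0) :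
    2 * Nat.card B ≤ p ^ (2 * blockDefect p B - 2) := by
  classical
  haveI : M.IsPrime := hM.2.1.isPrime
  obtain ⟨χ, hχ, h0⟩ := exists_height_zero (p := p) (Block.pBlock_nonempty hB)
  have h1 := four_sum_height_le hM hB hχ h0
  have h2 := four_height_zero_le hM hB hη hh
  have hd := height_le hM hB hη hh
  set S := Finset.univ.filter (· ∈ B) with hS
  set T := S.filter (fun ψ : IrrCharacter G => blockHeight p B (ψ : G → ℂ) ≠ 0)
  have h3 : 4 * (T.card * p ^ 2) ≤ p ^ (2 * blockDefect p B) := by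
    refine le_trans (Nat.mul_le_mul_left 4 ?_) h1
    calc T.card * p ^ 2 = ∑ ψ ∈ T, p ^ 2 := by rw [Finset.sum_const, smul_eq_mul]
      _ ≤ ∑ ψ ∈ T, p ^ (2 * blockHeight p B (ψ : G → ℂ)) := Finset.sum_le_sum fun ψ hψ =>
          Nat.pow_le_pow_right hM.1.pos (by have := (Finset.mem_filter.1 hψ).2; omega)
      _ ≤ _ := Finset.sum_le_sum_of_subset fun ψ hψ => by
          simp only [T, Finset.mem_filter] at hψ
          exact Finset.mem_erase.2 ⟨fun he => hψ.2 (he ▸ h0), hψ.1⟩
  have h4 : 4 * T.card ≤ p ^ (2 * blockDefect p B - 2) := by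
    refine Nat.le_of_mul_le_mul_right ?_ (pow_pos hM.1.pos 2)
    rw [← pow_add, show 2 * blockDefect p B - 2 + 2 = 2 * blockDefect p B by omega, mul_assoc]
    exact h3
  have h5 : Nat.card B = T.card + (Finset.univ.filter (fun χ : IrrCharacter G =>
      χ ∈ B ∧ blockHeight p B (χ : G → ℂ) = 0)).card := by
    rw [Nat.card_eq_fintype_card, ← Set.toFinset_card,
      show B.toFinset = S from by ext ψ; simp [S],
      ← Finset.card_filter_add_card_filter_not
        (fun ψ : IrrCharacter G => blockHeight p B (ψ : G → ℂ) ≠ 0)]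
    congr 1
    rw [hS, Finset.filter_filter]
    simp only [ne_eq, not_not]
  omega

end Cfsg.Agent.BrauerPairs
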