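import Mathlib

/-!
The action of a `p'`-group on a cyclic `p`-group.
-/

set_option maxHeartbeats 400000
set_option linter.unusedSectionVars false

namespace Cfsg.Agent.BrauerPairs.CyclicAct

variable {G : Type*} [Group G] [Finite G] {p : ℕ} [hp : Fact p.Prime] {P T : Subgroup G}

theorem pow_conj_eq {g u : G} {a : ℕ} (h : g * u * g⁻¹ = u ^ a) :
    ∀ m : ℕ, g ^ m * u * (g ^ m)⁻¹ = u ^ (a ^ m) := by
  intro m
  induction m with
  | zero => simp
  | succ m ih =>
    have e : g ^ (m + 1) * u * (g ^ (m + 1))⁻¹ = g * (g ^ m * u * (g ^ m)⁻¹) * g⁻¹ := by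
      rw [pow_succ']; group
    rw [e, ih, ← conj_pow, h, ← pow_mul, pow_succ']

theorem pow_relIndex_mem {C : Subgroup G} [(C.subgroupOf T).Normal] {g : G} (hg : g ∈ T) :
    g ^ C.relIndex T ∈ C := by
  have := (C.subgroupOf T).pow_index_mem (⟨g, hg⟩ : T)
  rwa [Subgroup.mem_subgroupOf, SubgroupClass.coe_pow] at this

/-- A `p'`-element modulo the centralizer fixing a non-trivial element centralizes. -/
theorem mem_centralizer_of_fix (hP : IsPGroup p P) [IsCyclic P]
    (hTN : T ≤ Subgroup.normalizer (P : Set G))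
    [((Subgroup.centralizer (P : Set G)).subgroupOf T).Normal]
    (he : ¬ p ∣ (Subgroup.centralizer (P : Set G)).relIndex T) {g x : G} (hg : g ∈ T)
    (hx : x ∈ P) (hx1 : x ≠ 1) (hfix : g * x * g⁻¹ = x) :
    g ∈ Subgroup.centralizer (P : Set G) := by
  obtain ⟨u, hu⟩ := IsCyclic.exists_generator (α := P)
  obtain ⟨n, hn⟩ := hP.exists_card_eq
  have hou : orderOf (u : G) = p ^ n := by
    rw [Subgroup.orderOf_coe, orderOf_eq_card_of_forall_mem_zpowers hu, hn]
  have hpow : ∀ y ∈ P, ∃ k : ℕ, y = (u : G) ^ k := by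
    intro y hy
    obtain ⟨k, hk⟩ := (mem_powers_iff_mem_zpowers).2 (hu ⟨y, hy⟩)
    exact ⟨k, by simpa using (congrArg Subtype.val hk).symm⟩
  obtain ⟨a, ha⟩ := hpow (g * u * g⁻¹) ((Subgroup.mem_normalizer_iff.1 (hTN hg) u).1 u.2)
  obtain ⟨k, hk⟩ := hpow x hx
  have h1 : (u : G) ^ (a * k) = (u : G) ^ k := by
    rw [pow_mul, ← ha, conj_pow, ← hk, hfix]
  rw [pow_eq_pow_iff_modEq, hou] at h1
  have hkn : ¬ p ^ n ∣ k := fun hd => hx1 (by
    rw [hk, ← orderOf_dvd_iff_pow_eq_one, hou]; exact hd)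
  have h2 : ((p : ℤ) ^ n) ∣ ((a : ℤ) - 1) * k := by
    have := h1.symm.dvd
    push_cast at this
    rwa [sub_mul, one_mul]
  have hpa : (p : ℤ) ∣ (a : ℤ) - 1 := by
    by_contra hna
    have hcop : IsCoprime ((p : ℤ) ^ n) ((a : ℤ) - 1) :=
      ((Nat.prime_iff_prime_int.1 hp.out).coprime_iff_not_dvd.2 hna).pow_left
    exact hkn (by exact_mod_cast hcop.dvd_of_dvd_mul_left h2)
  have h3 : ((p : ℤ) ^ n) ∣ (a : ℤ) ^ (p ^ n) - 1 := by
    have h4 := dvd_sub_pow_of_dvd_sub (R := ℤ) hpa n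
    rw [one_pow] at h4
    exact dvd_trans (pow_dvd_pow _ n.le_succ) h4
  have h5 : g ^ (p ^ n) * (u : G) * (g ^ (p ^ n))⁻¹ = u := by
    rw [pow_conj_eq ha (p ^ n)]
    conv_rhs => rw [← pow_one (u : G)]
    rw [pow_eq_pow_iff_modEq, hou]
    refine (Nat.modEq_of_dvd ?_).symm
    push_cast
    exact h3
  have h6 : g ^ (p ^ n) ∈ Subgroup.centralizer (P : Set G) := by
    rw [Subgroup.mem_centralizer_iff]
    intro y hy
    obtain ⟨j, rfl⟩ := hpow y hy
    exact (Commute.pow_left (mul_inv_eq_iff_eq_mul.1 h5).symm j : _)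
  have h7 := pow_relIndex_mem (C := Subgroup.centralizer (P : Set G)) hg
  have hcop : Nat.Coprime (p ^ n) ((Subgroup.centralizer (P : Set G)).relIndex T) :=
    ((Nat.Prime.coprime_iff_not_dvd hp.out).2 he).pow_left _
  have h8 := Subgroup.zpow_mem _ h6 (Nat.gcdA (p ^ n) ((Subgroup.centralizer (P : Set G)).relIndex T))
  have h9 := Subgroup.zpow_mem _ h7 (Nat.gcdB (p ^ n) ((Subgroup.centralizer (P : Set G)).relIndex T))
  have hbz := Nat.gcd_eq_gcd_ab (p ^ n) ((Subgroup.centralizer (P : Set G)).relIndex T)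
  rw [hcop.gcd_eq_one] at hbz
  have h10 := Subgroup.mul_mem _ h8 h9
  rwa [← zpow_natCast g (p ^ n), ← zpow_natCast g ((Subgroup.centralizer (P : Set G)).relIndex T),
    ← zpow_mul, ← zpow_mul, ← zpow_add, ← hbz, Nat.cast_one, zpow_one] at h10

/-- The group of automorphisms induced on a cyclic `p`-group, if of order prime to `p`, is cyclic
of order dividing `p - 1`. -/
theorem isCyclic_quotient (hP : IsPGroup p P) [IsCyclic P] (hP1 : P ≠ ⊥)
    (hTN : T ≤ Subgroup.normalizer (P : Set G))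
    [((Subgroup.centralizer (P : Set G)).subgroupOf T).Normal]
    (he : ¬ p ∣ (Subgroup.centralizer (P : Set G)).relIndex T) :
    IsCyclic (T ⧸ (Subgroup.centralizer (P : Set G)).subgroupOf T) ∧
      (Subgroup.centralizer (P : Set G)).relIndex T ∣ p - 1 := by
  classical
  obtain ⟨n, hn⟩ := hP.exists_card_eq
  have hn0 : n ≠ 0 := by
    rintro rfl
    exact hP1 (Subgroup.eq_bot_of_card_eq P (by rw [hn, pow_zero]))
  set π : T →* MulAut P := (Subgroup.normalizerMonoidHom P).comp (Subgroup.inclusion hTN) with hπ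
  have hker : π.ker = (Subgroup.centralizer (P : Set G)).subgroupOf T := by
    ext t
    rw [MonoidHom.mem_ker, Subgroup.mem_subgroupOf, Subgroup.mem_centralizer_iff]
    constructor
    · intro h y hy
      have := congrArg (fun φ : MulAut P => ((φ ⟨y, hy⟩ : P) : G)) h
      simp only [MulAut.one_apply] at this
      have h' : (t : G) * y * (t : G)⁻¹ = y := this
      exact (mul_inv_eq_iff_eq_mul.1 h').symm
    · intro h
      refine MulEquiv.ext fun y => Subtype.ext ?_
      show (t : G) * (y : G) * (t : G)⁻¹ = y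
      rw [← h y y.2, mul_inv_cancel_right]
  let φ : (T ⧸ (Subgroup.centralizer (P : Set G)).subgroupOf T) →* (ZMod (Nat.card P))ˣ :=
    QuotientGroup.lift _ ((IsCyclic.mulAutMulEquiv P).toMonoidHom.comp π) (fun t ht => by
      rw [MonoidHom.mem_ker, MonoidHom.comp_apply, (hker.symm ▸ ht : t ∈ π.ker)]
      exact map_one _)
  have hinj : Function.Injective φ := by
    rw [injective_iff_map_eq_one]
    intro q hq
    induction q using QuotientGroup.induction_on with
    | H t =>
      simp only [φ, QuotientGroup.lift_mk, MonoidHom.comp_apply, MulEquiv.coe_toMonoidHom,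
        EmbeddingLike.map_eq_one_iff] at hq
      exact (QuotientGroup.eq_one_iff t).2 (hker ▸ (MonoidHom.mem_ker.2 hq))
  have hcard : Nat.card (T ⧸ (Subgroup.centralizer (P : Set G)).subgroupOf T) ∣
      p ^ (n - 1) * (p - 1) := by
    have hdv := Subgroup.card_dvd_of_injective φ hinj
    have : NeZero (Nat.card P) := ⟨Nat.card_pos.ne'⟩
    rwa [Nat.card_eq_fintype_card (α := (ZMod (Nat.card P))ˣ), ZMod.card_units_eq_totient, hn,
      Nat.totient_prime_pow hp.out (Nat.pos_of_ne_zero hn0)] at hdv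
  have hd : (Subgroup.centralizer (P : Set G)).relIndex T ∣ p - 1 :=
    ((((Nat.Prime.coprime_iff_not_dvd hp.out).2 he).symm.pow_right _)).dvd_of_dvd_mul_left hcard
  refine ⟨?_, hd⟩
  by_cases h2 : p = 2
  · have h1 : (Subgroup.centralizer (P : Set G)).relIndex T = 1 := by
      subst h2; exact Nat.dvd_one.1 hd
    haveI : Subsingleton (T ⧸ (Subgroup.centralizer (P : Set G)).subgroupOf T) :=
      (Nat.card_eq_one_iff_unique.1 h1).1
    exact isCyclic_of_subsingleton
  · haveI : IsCyclic (ZMod (Nat.card P))ˣ := by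
      rw [hn]; exact ZMod.isCyclic_units_of_prime_pow p hp.out h2 n
    exact isCyclic_of_injective φ hinj

end Cfsg.Agent.BrauerPairs.CyclicAct
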