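import Cfsg.Agent.BrauerPairs.Rank
import Cfsg.Agent.BlockVal.SquareSum
import Mathlib.Algebra.GCDMonoid.Finset
import Mathlib.RingTheory.Int.Basic

/-!
Blocks of regular rank one.
-/

set_option maxHeartbeats 400000
set_option linter.style.haveILetI false

namespace Cfsg.Agent.BrauerPairs

open Cfsg
open Cfsg.Agent.BlockVal
open scoped ComplexConjugate
open Cfsg.Agent.Brauer (regSum)

universe u

variable {G : Type u} [Group G] [Fintype G] {p : ℕ} {M : Ideal AlgInt}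

open scoped Classical in
theorem exists_gcd_combination (s : Finset (IrrCharacter G)) (f : IrrCharacter G → ℕ) :
    ∃ n : IrrCharacter G → ℤ, ∑ i ∈ s, n i * (f i : ℤ) = ((s.gcd f : ℕ) : ℤ) := by
  induction s using Finset.induction with
  | empty => exact ⟨0, by simp⟩
  | insert a s ha ih =>
    obtain ⟨n, hn⟩ := ih
    rw [Finset.gcd_insert]
    refine ⟨fun i => if i = a then Nat.gcdA (f a) (s.gcd f) else Nat.gcdB (f a) (s.gcd f) * n i, ?_⟩
    simp only [Finset.sum_insert ha, gcd_eq_nat_gcd, Nat.gcd_eq_gcd_ab, if_true]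
    rw [Finset.sum_congr rfl (g := fun i => Nat.gcdB (f a) (s.gcd f) * (n i * (f i : ℤ)))
      fun i hi => by rw [if_neg (fun he => ha (by rw [← he]; exact hi))]; ring]
    rw [← Finset.mul_sum, hn]
    ring

/-- In rank one all regular parts are proportional. -/
theorem reg_proportional {B : Set (IrrCharacter G)} (h : blockRank p B = 1) [Fact p.Prime]
    {χ₀ χ : IrrCharacter G} (h₀ : χ₀ ∈ B) (hχ : χ ∈ B) {x : G} (hx : ¬ p ∣ orderOf x) :
    (χ : G → ℂ) x * (χ₀ : G → ℂ) 1 = (χ : G → ℂ) 1 * (χ₀ : G → ℂ) x := by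
  set S := Submodule.span ℂ ((fun χ : IrrCharacter G => pRegularPart p (χ : G → ℂ)) '' B)
  have h1 : ¬ p ∣ orderOf (1 : G) := by simpa using (Fact.out : p.Prime).one_lt.ne'
  have hm : pRegularPart p (χ₀ : G → ℂ) ∈ S := Submodule.subset_span ⟨χ₀, h₀, rfl⟩
  have hm' : pRegularPart p (χ : G → ℂ) ∈ S := Submodule.subset_span ⟨χ, hχ, rfl⟩
  have hne : (⟨_, hm⟩ : S) ≠ 0 := fun h0 => Char.irr_one_ne_zero χ₀.2 (by
    have := congrFun (congrArg Subtype.val h0) 1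
    simpa [pRegularPart, IsPRegular, h1, (Fact.out : p.Prime).ne_one] using this)
  obtain ⟨c, hc⟩ := (finrank_eq_one_iff_of_nonzero' (⟨_, hm⟩ : S) hne).1 h ⟨_, hm'⟩
  have key : ∀ y : G, ¬ p ∣ orderOf y → c * (χ₀ : G → ℂ) y = (χ : G → ℂ) y := fun y hy => by
    have := congrFun (congrArg Subtype.val hc) y
    simpa [pRegularPart, IsPRegular, hy] using this
  rw [← key x hx, ← key 1 h1]
  ring

/-- The rank one data: degrees over their greatest common divisor. -/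
theorem exists_rank_one_data (hM : IsPModular p M) {B : Set (IrrCharacter G)} (hB : IsPBlock M B)
    (h : blockRank p B = 1) [DecidablePred (· ∈ B)] :
    ∃ (φ : G → ℂ) (d : IrrCharacter G → ℕ) (n : IrrCharacter G → ℤ),
      (∀ x : G, φ x = ∑ ψ ∈ Finset.univ.filter (· ∈ B), (n ψ : ℂ) * (ψ : G → ℂ) x) ∧
      (∀ χ ∈ B, ∀ x : G, ¬ p ∣ orderOf x → (χ : G → ℂ) x = (d χ : ℂ) * φ x) ∧
      ∑ χ ∈ Finset.univ.filter (· ∈ B), d χ ^ 2 = p ^ blockDefect p B := by
  classical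
  haveI : M.IsPrime := hM.2.1.isPrime
  haveI : Fact p.Prime := ⟨hM.1⟩
  have hp := hM.1
  set S := Finset.univ.filter (· ∈ B) with hS
  obtain ⟨χ₀, h₀, h₀0⟩ := exists_height_zero (p := p) (Block.pBlock_nonempty hB)
  set g := S.gcd (fun χ : IrrCharacter G => charDegree (χ : G → ℂ))
  have hgd : ∀ χ ∈ S, g ∣ charDegree (χ : G → ℂ) := fun χ hχ => Finset.gcd_dvd hχ
  have hg0 : g ≠ 0 := fun h0 => (irr_one_eq_charDegree χ₀).2
    (Finset.gcd_eq_zero_iff.1 h0 χ₀ (by simp [hS, h₀]))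
  obtain ⟨n, hn⟩ := exists_gcd_combination S (fun χ : IrrCharacter G => charDegree (χ : G → ℂ))
  let d : IrrCharacter G → ℕ := fun χ => charDegree (χ : G → ℂ) / g
  have hd : ∀ χ ∈ S, charDegree (χ : G → ℂ) = d χ * g := fun χ hχ =>
    (Nat.div_mul_cancel (hgd χ hχ)).symm
  let φ : G → ℂ := fun x => ∑ ψ ∈ S, (n ψ : ℂ) * (ψ : G → ℂ) x
  have hn' : ∑ ψ ∈ S, (n ψ : ℂ) * (charDegree (ψ : G → ℂ) : ℂ) = (g : ℂ) := by exact_mod_cast hn
  have hnd : ∑ ψ ∈ S, (n ψ : ℂ) * (d ψ : ℂ) = 1 := by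
    apply mul_right_cancel₀ (Nat.cast_ne_zero.mpr hg0 : (g : ℂ) ≠ 0)
    rw [Finset.sum_mul, one_mul]
    refine (Finset.sum_congr rfl fun ψ hψ => ?_).trans hn'
    rw [hd ψ hψ]; push_cast; ring
  have hagree : ∀ χ ∈ B, ∀ x : G, ¬ p ∣ orderOf x → (χ : G → ℂ) x = (d χ : ℂ) * φ x := by
    intro χ hχ x hx
    have hχS : χ ∈ S := by simp [hS, hχ]
    apply mul_right_cancel₀ (Char.irr_one_ne_zero χ₀.2)
    apply mul_right_cancel₀ (Nat.cast_ne_zero.mpr hg0 : (g : ℂ) ≠ 0)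
    calc (χ : G → ℂ) x * (χ₀ : G → ℂ) 1 * g
        = (χ : G → ℂ) 1 * ((g : ℂ) * (χ₀ : G → ℂ) x) := by
          rw [reg_proportional h h₀ hχ hx]; ring
      _ = (χ : G → ℂ) 1 * (φ x * (χ₀ : G → ℂ) 1) := by
          congr 1
          rw [← hn', Finset.sum_mul, Finset.sum_mul]
          refine Finset.sum_congr rfl fun ψ hψ => ?_
          rw [mul_assoc, mul_assoc, ← (irr_one_eq_charDegree ψ).1,
            reg_proportional h h₀ (show ψ ∈ B by simpa [hS] using hψ) hx]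
      _ = _ := by rw [(irr_one_eq_charDegree χ).1, hd χ hχS]; push_cast; ring
  refine ⟨φ, d, n, fun x => rfl, hagree, ?_⟩
  set T := ∑ χ ∈ S, d χ ^ 2 with hT
  have hreg : ∀ χ ∈ S, ∀ ψ ∈ S, regSum p (χ : G → ℂ) (ψ : G → ℂ) =
      (d χ : ℂ) * (d ψ : ℂ) * regSum p φ φ := by
    intro χ hχ ψ hψ
    rw [regSum, regSum, Finset.mul_sum]
    refine Finset.sum_congr rfl fun x hx => ?_
    rw [hagree χ (by simpa [hS] using hχ) x (Finset.mem_filter.1 hx).2,
      hagree ψ (by simpa [hS] using hψ) x (Finset.mem_filter.1 hx).2, map_mul, Complex.conj_natCast]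
    ring
  have htr : (Nat.card G : ℂ) = (T : ℂ) * regSum p φ φ := by
    have h1 := card_mul_blockRank hM hB
    rw [h, Nat.cast_one, mul_one] at h1
    rw [h1, hT]
    push_cast
    rw [Finset.sum_mul]
    exact Finset.sum_congr rfl fun χ hχ => by rw [hreg χ hχ χ hχ]; ring
  set a := (Nat.card G).factorization p
  choose c hc _hl _hr using fun χ ψ : IrrCharacter G => cReg_int (p := p) χ ψ
  set z : ℤ := ∑ χ ∈ S, ∑ ψ ∈ S, n χ * n ψ * c χ ψ
  have hz : (z : ℂ) * (T : ℂ) = ((p ^ a : ℕ) : ℂ) := by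
    have hG : (Nat.card G : ℂ) ≠ 0 := Nat.cast_ne_zero.mpr Nat.card_pos.ne'
    have h1 : (z : ℂ) = ((p ^ a : ℕ) : ℂ) * regSum p φ φ / (Nat.card G : ℂ) *
        ((∑ χ ∈ S, (n χ : ℂ) * (d χ : ℂ)) * ∑ ψ ∈ S, (n ψ : ℂ) * (d ψ : ℂ)) := by
      simp only [z]
      push_cast
      rw [Finset.sum_mul_sum, Finset.mul_sum]
      refine Finset.sum_congr rfl fun χ hχ => ?_
      rw [Finset.mul_sum]
      refine Finset.sum_congr rfl fun ψ hψ => ?_
      rw [← hc χ ψ, cReg, hreg χ hχ ψ hψ]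
      push_cast
      ring
    rw [h1, hnd, mul_one, mul_one, div_mul_eq_mul_div, div_eq_iff hG, mul_assoc,
      mul_comm (regSum p φ φ), ← htr]
  have hTdvd : T ∣ p ^ a := by
    have h2 : z * (T : ℤ) = ((p ^ a : ℕ) : ℤ) := by exact_mod_cast hz
    exact_mod_cast (Dvd.intro_left z h2 : (T : ℤ) ∣ ((p ^ a : ℕ) : ℤ))
  obtain ⟨i, -, hi⟩ := (Nat.dvd_prime_pow hp).1 hTdvd
  rw [hi]
  congr 1
  -- compare `p`-parts
  have hsq : ∑ χ ∈ S, charDegree (χ : G → ℂ) ^ 2 = g ^ 2 * T := by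
    rw [hT, Finset.mul_sum]
    exact Finset.sum_congr rfl fun χ hχ => by rw [hd χ hχ]; ring
  have hf := factorization_sum_sq hM hB h₀ h₀0
  rw [← hS, hsq, hi, Nat.factorization_mul (pow_ne_zero _ hg0) (pow_ne_zero _ hp.ne_zero),
    Finsupp.add_apply, Nat.factorization_pow, Finsupp.smul_apply, hp.factorization_pow,
    Finsupp.single_eq_same, smul_eq_mul] at hf
  rw [blockDefect_eq h₀ h₀0]
  have hgb : g.factorization p = (charDegree (χ₀ : G → ℂ)).factorization p := by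
    refine le_antisymm ?_ ?_
    · exact (Nat.factorization_le_iff_dvd hg0 (irr_one_eq_charDegree χ₀).2).mpr
        (hgd χ₀ (by simp [hS, h₀])) p
    · rw [← hp.pow_dvd_iff_le_factorization hg0]
      refine Finset.dvd_gcd fun χ hχ => ?_
      rw [hp.pow_dvd_iff_le_factorization (irr_one_eq_charDegree χ).2]
      exact (blockHeight_eq_zero_iff h₀).1 h₀0 χ (by simpa [hS] using hχ)
  omega

end Cfsg.Agent.BrauerPairs
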